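import Groth.Agent.Lib.Helper15.AlgSpEtGsectRed
import Groth.Agent.Lib.Helper15.AlgSpTop
import Groth.Prelude.Def_AlgSpDec

/-!
# Global sections of the structure sheaf of an integral algebraic space form a domain (helper19)
-/

set_option autoImplicit false
set_option linter.style.haveILetI false
universe u
open CategoryTheory CategoryTheory.Limits AlgebraicGeometry MorphismProperty Opposite
open AlgSp Groth.Agent.Helper15

namespace Groth.Agent.Helper19.Gsect

variable {S : Scheme.{u}} {X : Sp S}

/-- the value of a global section of `O_X` on an object of the small étale site -/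
noncomputable def val (f : ↥(gsectEt (OEt X))) (E : EtOver X) : Γ(E.obj.left.left, ⊤) :=
  ((limit.π (OEt X).obj (op E)) f).down

theorem val_map (f : ↥(gsectEt (OEt X))) {E E' : EtOver X} (k : E ⟶ E') :
    k.hom.left.left.appTop (val f E') = val f E := by
  have h := ConcreteCategory.congr_hom (limit.w (OEt X).obj k.op) f
  exact congrArg ULift.down h

theorem val_mul (f g : ↥(gsectEt (OEt X))) (E : EtOver X) :
    val (f * g) E = val f E * val g E := by
  unfold val
  rw [map_mul]
  rfl

theorem val_zero (E : EtOver X) : val (0 : ↥(gsectEt (OEt X))) E = 0 := by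
  unfold val
  rw [map_zero]
  rfl

theorem val_one (E : EtOver X) : val (1 : ↥(gsectEt (OEt X))) E = 1 := by
  unfold val
  rw [map_one]
  rfl

theorem ext_val (f g : ↥(gsectEt (OEt X))) (h : ∀ E, val f E = val g E) : f = g :=
  gsectEt_ext f g (fun E => ULift.ext _ _ (h E))

/-- membership in the nonvanishing locus does not depend on the chart -/
theorem mem_basicOpen_of_ofPt_eq (f : ↥(gsectEt (OEt X))) (E E' : EtOver X)
    (e : E.obj.left.left) (e' : E'.obj.left.left)
    (h : Points.ofPt E.obj.hom e = Points.ofPt E'.obj.hom e')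
    (he : e ∈ E.obj.left.left.basicOpen (val f E)) :
    e' ∈ E'.obj.left.left.basicOpen (val f E') := by
  have sq := E'.property.1.isPullback' E.obj.hom
  obtain ⟨p, hp1, hp2⟩ := exists_of_ofPt_eq sq e' e h.symm
  have h1 := val_map f (EtOver.prodFst E E')
  have h2 := val_map f (EtOver.prodSnd E E')
  have hp : p ∈ (EtOver.prodObj E E').obj.left.left.basicOpen (val f (EtOver.prodObj E E')) := by
    rw [← h1]
    have hpre := Scheme.preimage_basicOpen_top ((E'.property.1.snd E.obj.hom).left) (val f E)
    have hmem : p ∈ ((E'.property.1.snd E.obj.hom).left ⁻¹ᵁ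
        E.obj.left.left.basicOpen (val f E)) := by
      show (E'.property.1.snd E.obj.hom).left p ∈ E.obj.left.left.basicOpen (val f E)
      rw [hp2]; exact he
    rw [hpre] at hmem
    exact hmem
  rw [← h2] at hp
  have hpre := Scheme.preimage_basicOpen_top ((E'.property.1.fst' E.obj.hom).left) (val f E')
  have hmem : p ∈ ((E'.property.1.fst' E.obj.hom).left ⁻¹ᵁ
      E'.obj.left.left.basicOpen (val f E')) := by
    rw [hpre]
    exact hp
  have hmem' : (E'.property.1.fst' E.obj.hom).left p ∈ E'.obj.left.left.basicOpen (val f E') :=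
    hmem
  rw [hp1] at hmem'; exact hmem'

/-- the nonvanishing locus of a global section -/
def D (f : ↥(gsectEt (OEt X))) : Set (Points X) :=
  {x | ∃ (E : EtOver X) (e : E.obj.left.left), Points.ofPt E.obj.hom e = x ∧
    e ∈ E.obj.left.left.basicOpen (val f E)}

theorem isOpen_D (f : ↥(gsectEt (OEt X))) : IsOpen (D f) := by
  have : D f = ⋃ E : EtOver X, Points.ofPt E.obj.hom ''
      (E.obj.left.left.basicOpen (val f E) : Set E.obj.left.left) := by
    ext x
    simp only [D, Set.mem_iUnion, Set.mem_image]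
    constructor
    · rintro ⟨E, e, he, hm⟩; exact ⟨E, e, hm, he⟩
    · rintro ⟨E, e, hm, he⟩; exact ⟨E, e, he, hm⟩
  rw [this]
  exact isOpen_iUnion fun E =>
    isOpenMap_ofPt_of_etale E.obj.hom E.property _ (E.obj.left.left.basicOpen _).2

theorem D_inter_subset (f g : ↥(gsectEt (OEt X))) : D f ∩ D g ⊆ D (f * g) := by
  rintro x ⟨⟨E, e, he, hm⟩, ⟨E', e', he', hm'⟩⟩
  have hm2 := mem_basicOpen_of_ofPt_eq g E' E e' e (he'.trans he.symm) hm'
  refine ⟨E, e, he, ?_⟩
  rw [val_mul, Scheme.basicOpen_mul]
  exact ⟨hm, hm2⟩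

theorem eq_zero_of_D_eq_empty (hX : IsAlgSpace X) (hred : IsReducedSp X)
    (f : ↥(gsectEt (OEt X))) (h : D f = ∅) : f = 0 := by
  apply gsectEt_eq_zero_of_basicOpen hX hred
  intro E
  rw [eq_bot_iff]
  intro e he
  have : Points.ofPt E.obj.hom e ∈ D f := ⟨E, e, rfl, he⟩
  rw [h] at this
  exact this.elim

/-- **The ring of global functions of an integral algebraic space is a domain.** -/
theorem isDomain_gsectEt (hX : IsAlgSpace X) (hint : IsIntegralSp X) :
    IsDomain ↥(gsectEt (OEt X)) := by
  obtain ⟨hred, -, hirr⟩ := hint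
  haveI : Nontrivial ↥(gsectEt (OEt X)) := by
    obtain ⟨x⟩ := hirr.toNonempty
    obtain ⟨U, a, hae, has⟩ := hX.atlas
    obtain ⟨u, -⟩ := surjective_ofPt a has x
    refine ⟨⟨0, 1, fun h01 => ?_⟩⟩
    have h1 : val (0 : ↥(gsectEt (OEt X))) (EtOver.mk a hae) = val 1 (EtOver.mk a hae) := by
      rw [h01]
    rw [val_zero, val_one] at h1
    have hne : Nonempty ↥(⊤ : U.left.Opens) := ⟨⟨u, trivial⟩⟩
    haveI : Nontrivial Γ(U.left, ⊤) := @Scheme.component_nontrivial U.left ⊤ hne
    exact (zero_ne_one (α := Γ(U.left, ⊤))) h1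
  haveI : NoZeroDivisors ↥(gsectEt (OEt X)) := by
    refine ⟨fun {f g} hfg => ?_⟩
    have hD : D f ∩ D g = ∅ := by
      apply Set.eq_empty_of_subset_empty
      refine (D_inter_subset f g).trans ?_
      rintro x ⟨E, e, -, hm⟩
      rw [hfg, val_zero, Scheme.basicOpen_zero] at hm
      exact hm.elim
    by_contra hne
    push Not at hne
    have hf : (D f).Nonempty := by
      rw [Set.nonempty_iff_ne_empty]
      exact fun h => hne.1 (eq_zero_of_D_eq_empty hX hred f h)
    have hg : (D g).Nonempty := by
      rw [Set.nonempty_iff_ne_empty]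
      exact fun h => hne.2 (eq_zero_of_D_eq_empty hX hred g h)
    have := hirr.toPreirreducibleSpace.isPreirreducible_univ (D f) (D g) (isOpen_D f) (isOpen_D g)
      (by simpa using hf) (by simpa using hg)
    rw [Set.univ_inter, hD] at this
    exact this.ne_empty rfl
  exact NoZeroDivisors.to_isDomain _

end Groth.Agent.Helper19.Gsect
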