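import Groth.Agent.Lib.Helper19.UCSp.Main
import Groth.Agent.Lib.Helper19.Gsect.Domain

/-!
# Saturated closed subsets of a chart of a base change have closed image (helper19)
-/

set_option autoImplicit false
set_option linter.style.haveILetI false
universe u
open CategoryTheory CategoryTheory.Limits AlgebraicGeometry MorphismProperty TopologicalSpace Opposite
open AlgSp Groth.Agent.Helper15 Groth.Agent.Helper16.AS TensorProduct

namespace Groth.Agent.Helper19.Gsect

open Groth.Agent.Helper19.UCSp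

variable {S : Scheme.{u}} {X Y : Sp S} {f : X ⟶ Y}

/-- Pullbacks of the values of a global section along two maps into charts which agree in `X`
agree. -/
theorem val_comp_eq (s : ↥(gsectEt (OEt X))) (E E' : EtOver X) {W : Over S}
    (ψ : W ⟶ E.obj.left) (ψ' : W ⟶ E'.obj.left)
    (h : (yon S).map ψ ≫ E.obj.hom = (yon S).map ψ' ≫ E'.obj.hom) :
    ψ.left.appTop (val s E) = ψ'.left.appTop (val s E') := by
  let c := E'.property.1.lift' ψ' ψ h.symm
  have hc1 : c ≫ E'.property.1.fst' E.obj.hom = ψ' :=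
    Functor.relativelyRepresentable.lift'_fst _ _ _ _
  have hc2 : c ≫ E'.property.1.snd E.obj.hom = ψ :=
    Functor.relativelyRepresentable.lift'_snd _ _ _ _
  have h1 := val_map s (EtOver.prodFst E E')
  have h2 := val_map s (EtOver.prodSnd E E')
  have e1 : ψ.left.appTop (val s E) = c.left.appTop (val s (EtOver.prodObj E E')) := by
    rw [← h1, ← hc2]
    change ((c.left ≫ (E'.property.1.snd E.obj.hom).left).appTop) (val s E) = _
    rw [Scheme.Hom.comp_appTop]
    rfl
  have e2 : ψ'.left.appTop (val s E') = c.left.appTop (val s (EtOver.prodObj E E')) := by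
    rw [← h2, ← hc1]
    change ((c.left ≫ (E'.property.1.fst' E.obj.hom).left).appTop) (val s E') = _
    rw [Scheme.Hom.comp_appTop]
    rfl
  rw [e1, e2]

section TBchart

variable (R : Type u) [CommRing R] (σ : Spec (CommRingCat.of R) ⟶ S)
  (g₀ : (yon S).obj (Over.mk σ) ⟶ Y)

/-- an affine étale chart of `X ×_Y Spec R`, in `TB` form -/
theorem exists_TB_chart (hqc : IsQuasiCompactMor f) :
    ∃ (A : Type u) (_ : CommRing A) (_ : Algebra R A)
      (a : (yon S).obj (TB R σ A) ⟶ pullback f g₀),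
      a ≫ pullback.snd f g₀ = (yon S).map (hB R σ A) ∧ RepWith @Etale a ∧
        RepWith @Surjective a := by
  have hc : CompactSpace (Over.mk σ).left :=
    inferInstanceAs (CompactSpace (Spec (CommRingCat.of R)))
  have hPqc : IsQuasiCompactSp (pullback f g₀) :=
    hqc (IsAlgSpace.yon_obj _) ((isQuasiCompactSp_yon_iff _).2 hc) g₀ _ _
      (IsPullback.of_hasPullback f g₀)
  obtain ⟨U, a₀, hUaff, hae, has⟩ := exists_affine_chart_of_isQuasiCompactSp hPqc
  haveI := hUaff
  obtain ⟨u₀, hu₀⟩ := (yon S).map_surjective (a₀ ≫ pullback.snd f g₀)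
  let φ : CommRingCat.of R ⟶ Γ(U.left, ⊤) := Spec.preimage (U.left.isoSpec.inv ≫ u₀.left)
  letI : Algebra R Γ(U.left, ⊤) := φ.hom.toAlgebra
  have hφ : Spec.map (CommRingCat.ofHom (algebraMap R Γ(U.left, ⊤))) =
      U.left.isoSpec.inv ≫ u₀.left := Spec.map_preimage _
  let ε : TB R σ Γ(U.left, ⊤) ⟶ U := Over.homMk U.left.isoSpec.inv (by
    have h1 : u₀.left ≫ σ = U.hom := Over.w u₀
    change _ ≫ U.hom = Spec.map _ ≫ σ
    rw [hφ, ← h1, Category.assoc])
  have hεu : ε ≫ u₀ = hB R σ Γ(U.left, ⊤) := by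
    apply Over.OverMorphism.ext
    exact hφ.symm
  have hεe : RepWith @Etale ((yon S).map ε) :=
    (repWith_yon_map_iff _ ε).2 (inferInstanceAs (Etale U.left.isoSpec.inv))
  have hεs : RepWith @Surjective ((yon S).map ε) :=
    (repWith_yon_map_iff _ ε).2 (inferInstanceAs (Surjective U.left.isoSpec.inv))
  refine ⟨Γ(U.left, ⊤), inferInstance, inferInstance, (yon S).map ε ≫ a₀, ?_,
    (RepWith @Etale).comp_mem _ _ hεe hae, (RepWith @Surjective).comp_mem _ _ hεs has⟩
  rw [Category.assoc, ← hu₀, ← Functor.map_comp, hεu]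

variable (A : Type u) [CommRing A] [Algebra R A] (B : Type u) [CommRing B] [Algebra R B]
  (a : (yon S).obj (TB R σ A) ⟶ pullback f g₀)
  (ha : a ≫ pullback.snd f g₀ = (yon S).map (hB R σ A))
  (hae : RepWith @Etale a) (has : RepWith @Surjective a)

include hae has in
/-- **A closed subset of the chart `Spec (A ⊗ B)` of `X ×_Y Spec B` which is saturated for the
chart map has closed image in `Spec B`**, if `X ×_Y Spec B ⟶ Spec B` is closed. -/
theorem isClosed_image_of_saturated (hcb : CB f ((yon S).map (hB R σ B) ≫ g₀))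
    (Z : Set (TB R σ (A ⊗[R] B)).left) (hZ : IsClosed Z)
    (hsat : ∀ q q' : (TB R σ (A ⊗[R] B)).left,
      Points.ofPt (chartBC a ha (isPullback_sqU R σ A B)) q =
        Points.ofPt (chartBC a ha (isPullback_sqU R σ A B)) q' → q ∈ Z → q' ∈ Z) :
    IsClosed ((pT R σ A B).left '' Z) := by
  set a₁ := chartBC a ha (isPullback_sqU R σ A B) with ha₁
  have ha₁e : RepWith @Etale a₁ := repWith_chartBC a ha _ hae
  have ha₁s : RepWith @Surjective a₁ := repWith_chartBC a ha _ has
  have hopen := isOpenMap_ofPt_of_etale a₁ ha₁e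
  have hsurj := surjective_ofPt a₁ ha₁s
  have hZx : IsClosed (Points.ofPt a₁ '' Z) := by
    have hcompl : (Points.ofPt a₁ '' Z)ᶜ = Points.ofPt a₁ '' Zᶜ := by
      ext x
      constructor
      · intro hx
        obtain ⟨q, rfl⟩ := hsurj x
        exact ⟨q, fun hq => hx ⟨q, hq, rfl⟩, rfl⟩
      · rintro ⟨q, hq, rfl⟩ ⟨q', hq', hqq'⟩
        exact hq (hsat q' q hqq' hq')
    rw [← isOpen_compl_iff, hcompl]
    exact hopen _ hZ.isOpen_compl
  have h1 := hcb _ hZx
  have h2 : Points.map (pullback.snd f ((yon S).map (hB R σ B) ≫ g₀)) '' (Points.ofPt a₁ '' Z) =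
      Points.schemeHomeo (TB R σ B) '' ((pT R σ A B).left '' Z) := by
    rw [Set.image_image, Set.image_image]
    apply Set.image_congr
    intro q _
    rw [Points.map_ofPt, chartBC_snd, Groth.Agent.Helper15.ofPt_yon_map]
    rfl
  rw [h2] at h1
  exact ((Points.schemeHomeo (TB R σ B)).isClosed_image).1 h1

end TBchart

end Groth.Agent.Helper19.Gsect
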