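import Mathlib

/-!
# An element is integral if the image of `V(sT - 1)` in the affine line of the base is closed
(helper19; the element-wise form of `PrimeSpectrum.isIntegral_of_isClosedMap_comap_mapRingHom`,
stated with the tensor product `A ⊗[R] R[X]`).
-/

set_option autoImplicit false
universe u
open TensorProduct Polynomial

namespace Groth.Agent.Helper19.Gsect

variable {R A : Type u} [CommRing R] [CommRing A] [Algebra R A]

/-- the evaluation map `A ⊗[R] R[X] → A_s`, `a ⊗ p ↦ a p(1/s)` -/
noncomputable def chi (s : A) : A ⊗[R] R[X] →ₐ[R] Localization.Away s :=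
  Algebra.TensorProduct.lift (IsScalarTower.toAlgHom R A (Localization.Away s))
    (Polynomial.aeval (IsLocalization.Away.invSelf (S := Localization.Away s) s))
    (fun _ _ => Commute.all _ _)

theorem chi_tmul (s a : A) (p : R[X]) :
    chi (R := R) s (a ⊗ₜ[R] p) = algebraMap A (Localization.Away s) a *
      Polynomial.aeval (IsLocalization.Away.invSelf (S := Localization.Away s) s) p := by
  simp [chi]

theorem isIntegral_of_isClosed_image (s : A)
    (H : IsClosed (PrimeSpectrum.comap
        (Algebra.TensorProduct.includeRight (R := R) (A := A) (B := R[X])).toRingHom ''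
      PrimeSpectrum.zeroLocus {s ⊗ₜ[R] (X : R[X]) - 1})) : IsIntegral R s := by
  classical
  rcases subsingleton_or_nontrivial R with hR | hR
  · haveI : Subsingleton A := Module.subsingleton R A
    exact ⟨1, monic_one, Subsingleton.elim _ _⟩
  set ι : R[X] →+* A ⊗[R] R[X] :=
    (Algebra.TensorProduct.includeRight (R := R) (A := A) (B := R[X])).toRingHom with hι
  set P : A ⊗[R] R[X] := s ⊗ₜ[R] (X : R[X]) - 1 with hP
  have h1 : (1 : R[X]) ∈ Ideal.span {X} ⊔ (Ideal.span {P}).comap ι := by
    rw [← PrimeSpectrum.zeroLocus_span, ← closure_eq_iff_isClosed,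
      PrimeSpectrum.closure_image_comap_zeroLocus] at H
    rw [← Ideal.eq_top_iff_one, sup_comm, ← PrimeSpectrum.zeroLocus_empty_iff_eq_top,
      PrimeSpectrum.zeroLocus_sup, H]
    rw [Set.eq_empty_iff_forall_notMem]
    rintro _ ⟨⟨q, hq, rfl⟩, hX⟩
    have hPq : P ∈ q.asIdeal := by
      have := hq (Ideal.subset_span (Set.mem_singleton P))
      exact this
    have hXq : ι X ∈ q.asIdeal := by
      have := hX (Ideal.subset_span (Set.mem_singleton (X : R[X])))
      exact this
    have hιX : ι X = (1 : A) ⊗ₜ[R] (X : R[X]) := rfl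
    have h3 : (s ⊗ₜ[R] (1 : R[X])) * ι X = s ⊗ₜ[R] (X : R[X]) := by
      rw [hιX, Algebra.TensorProduct.tmul_mul_tmul, mul_one, one_mul]
    have h4 : (1 : A ⊗[R] R[X]) ∈ q.asIdeal := by
      have : (1 : A ⊗[R] R[X]) = (s ⊗ₜ[R] (1 : R[X])) * ι X - P := by
        rw [h3, hP]; ring
      rw [this]
      exact sub_mem (q.asIdeal.mul_mem_left _ hXq) hPq
    exact q.2.ne_top (q.asIdeal.eq_top_iff_one.mpr h4)
  obtain ⟨a, b, hb, e⟩ := Ideal.mem_span_singleton_sup.mp h1
  obtain ⟨c, hc⟩ := Ideal.mem_span_singleton.mp (Ideal.mem_comap.mp hb)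
  -- evaluate in the localization
  set L := Localization.Away s
  set y : L := IsLocalization.Away.invSelf (S := L) s with hy
  have hsy : algebraMap A L s * y = 1 := IsLocalization.Away.mul_invSelf s
  have hχP : chi (R := R) s P = 0 := by
    rw [hP, map_sub, map_one, chi_tmul, Polynomial.aeval_X, hsy, sub_self]
  have hχb : Polynomial.aeval y b = 0 := by
    have h5 : chi (R := R) s (ι b) = 0 := by rw [hc, map_mul, hχP, zero_mul]
    have h6 : ι b = (1 : A) ⊗ₜ[R] b := rfl
    rw [h6, chi_tmul, map_one, one_mul] at h5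
    exact h5
  letI : Invertible y := ⟨algebraMap A L s, hsy, by rw [mul_comm]; exact hsy⟩
  have hrev : Polynomial.eval₂ (algebraMap R L) (algebraMap A L s) b.reverse = 0 :=
    (Polynomial.eval₂_reverse_eq_zero_iff (algebraMap R L) y b).2 hχb
  have hrev' : algebraMap A L (Polynomial.eval₂ (algebraMap R A) s b.reverse) = 0 := by
    rw [Polynomial.hom_eval₂, ← IsScalarTower.algebraMap_eq]
    exact hrev
  obtain ⟨⟨_, m, rfl⟩, hm⟩ := (IsLocalization.map_eq_zero_iff (Submonoid.powers s) L _).1 hrev'
  have hb0 : b.coeff 0 = 1 := by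
    have := congrArg (fun p : R[X] => p.coeff 0) e
    simpa using this
  refine ⟨b.reverse * X ^ m, ?_, ?_⟩
  · refine Monic.mul ?_ (monic_X_pow m)
    have : b.natTrailingDegree = 0 := by
      apply Polynomial.natTrailingDegree_eq_zero_of_constantCoeff_ne_zero
      rw [Polynomial.constantCoeff_apply, hb0]
      exact one_ne_zero
    rw [Monic.def, reverse_leadingCoeff, trailingCoeff, this, hb0]
  · rw [Polynomial.eval₂_mul, Polynomial.eval₂_pow, Polynomial.eval₂_X, mul_comm]
    exact hm

end Groth.Agent.Helper19.Gsect
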