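import Groth.Agent.Lib.Helper19.Gsect.Closed
import Groth.Agent.Lib.Helper19.Gsect.IntAlg

/-!
# Global sections over a universally closed quasi-compact space are integral over the base (helper19)
-/

set_option autoImplicit false
set_option linter.style.haveILetI false
universe u
open CategoryTheory CategoryTheory.Limits AlgebraicGeometry MorphismProperty TopologicalSpace Opposite
open AlgSp Groth.Agent.Helper15 Groth.Agent.Helper16.AS TensorProduct

namespace Groth.Agent.Helper19.Gsect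

open Groth.Agent.Helper19.UCSp

variable {S : Scheme.{u}} {X Y : Sp S} {f : X ⟶ Y}

/-- an element of a ring as a global function on its spectrum -/
noncomputable def gs {T : Type u} [CommRing T] (t : T) : Γ(Spec (CommRingCat.of T), ⊤) :=
  (Scheme.ΓSpecIso (CommRingCat.of T)).inv t

theorem appTop_gs {T T' : Type u} [CommRing T] [CommRing T'] (φ : T →+* T') (t : T) :
    (Spec.map (CommRingCat.ofHom φ)).appTop (gs t) = gs (φ t) := by
  have h := Scheme.ΓSpecIso_inv_naturality (CommRingCat.ofHom φ)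
  have h2 := ConcreteCategory.congr_hom h t
  exact h2.symm

theorem gs_mul {T : Type u} [CommRing T] (t t' : T) : gs (t * t') = gs t * gs t' :=
  map_mul (Scheme.ΓSpecIso (CommRingCat.of T)).inv.hom t t'

theorem gs_sub {T : Type u} [CommRing T] (t t' : T) : gs (t - t') = gs t - gs t' :=
  map_sub (Scheme.ΓSpecIso (CommRingCat.of T)).inv.hom t t'

theorem gs_one {T : Type u} [CommRing T] : gs (1 : T) = 1 :=
  map_one (Scheme.ΓSpecIso (CommRingCat.of T)).inv.hom

theorem basicOpen_gs_compl {T : Type u} [CommRing T] (t : T) :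
    (((Spec (CommRingCat.of T)).basicOpen (gs t) : Set (Spec (CommRingCat.of T))))ᶜ =
      PrimeSpectrum.zeroLocus {t} := by
  rw [gs, basicOpen_eq_of_affine]
  ext x
  change ¬ (t ∉ (x : PrimeSpectrum T).asIdeal) ↔ ({t} : Set T) ⊆ (x : PrimeSpectrum T).asIdeal
  rw [Set.singleton_subset_iff]
  exact not_not

section TBchart

variable (R : Type u) [CommRing R] (σ : Spec (CommRingCat.of R) ⟶ S)
  (g₀ : (yon S).obj (Over.mk σ) ⟶ Y)
  (A : Type u) [CommRing A] [Algebra R A] (B : Type u) [CommRing B] [Algebra R B]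
  (a : (yon S).obj (TB R σ A) ⟶ pullback f g₀)
  (ha : a ≫ pullback.snd f g₀ = (yon S).map (hB R σ A))
  (hae : RepWith @Etale a)

/-- the function `pU^* s_A · pT^* b - 1` on `Spec (A ⊗ B)` -/
noncomputable def Pg (sA : Γ((TB R σ A).left, ⊤)) (b : Γ((TB R σ B).left, ⊤)) :
    Γ((TB R σ (A ⊗[R] B)).left, ⊤) :=
  (pU R σ A B).left.appTop sA * (pT R σ A B).left.appTop b - 1

include hae in
/-- the zero locus of `pU^* s_A · pT^* b - 1` is saturated for the chart of the base change -/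
theorem saturated_Pg (hι : IsIso (pullback.fst f g₀)) (s : ↥(gsectEt (OEt X)))
    (b : Γ((TB R σ B).left, ⊤))
    (q q' : (TB R σ (A ⊗[R] B)).left)
    (h : Points.ofPt (chartBC a ha (isPullback_sqU R σ A B)) q =
        Points.ofPt (chartBC a ha (isPullback_sqU R σ A B)) q')
    (hq : q ∉ (TB R σ (A ⊗[R] B)).left.basicOpen
      (Pg R σ A B (val s (EtOver.mk (a ≫ pullback.fst f g₀)
        ((RepWith @Etale).comp_mem _ _ hae (repWith_of_isIso @Etale _)))) b)) :
    q' ∉ (TB R σ (A ⊗[R] B)).left.basicOpen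
      (Pg R σ A B (val s (EtOver.mk (a ≫ pullback.fst f g₀)
        ((RepWith @Etale).comp_mem _ _ hae (repWith_of_isIso @Etale _)))) b) := by
  set a₁ := chartBC a ha (isPullback_sqU R σ A B) with ha₁
  have ha₁e : RepWith @Etale a₁ := repWith_chartBC a ha _ hae
  set EA : EtOver X := EtOver.mk (a ≫ pullback.fst f g₀)
        ((RepWith @Etale).comp_mem _ _ hae (repWith_of_isIso @Etale _)) with hEA
  have sqW := ha₁e.rep.isPullback' a₁
  obtain ⟨w, hw1, hw2⟩ := exists_of_ofPt_eq sqW q q' h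
  set φ₁ := ha₁e.rep.fst' a₁ with hφ₁
  set φ₂ := ha₁e.rep.snd a₁ with hφ₂
  have hw : (yon S).map φ₁ ≫ a₁ = (yon S).map φ₂ ≫ a₁ := sqW.w
  -- the two pullbacks of the function agree
  have hT : φ₁ ≫ pT R σ A B = φ₂ ≫ pT R σ A B := by
    apply (yon S).map_injective
    rw [Functor.map_comp, Functor.map_comp, ← chartBC_snd a ha (isPullback_sqU R σ A B),
      ← Category.assoc, ← Category.assoc, hw]
  have hU : (yon S).map (φ₁ ≫ pU R σ A B) ≫ EA.obj.hom =
      (yon S).map (φ₂ ≫ pU R σ A B) ≫ EA.obj.hom := by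
    change (yon S).map (φ₁ ≫ pU R σ A B) ≫ a ≫ pullback.fst f g₀ =
      (yon S).map (φ₂ ≫ pU R σ A B) ≫ a ≫ pullback.fst f g₀
    rw [Functor.map_comp, Functor.map_comp, Category.assoc, Category.assoc,
      ← chartBC_fst a ha (isPullback_sqU R σ A B), ← Category.assoc, ← Category.assoc, hw]
  have hval := val_comp_eq s EA EA (φ₁ ≫ pU R σ A B) (φ₂ ≫ pU R σ A B) hU
  have hPg : φ₁.left.appTop (Pg R σ A B (val s EA) b) = φ₂.left.appTop (Pg R σ A B (val s EA) b) := by
    unfold Pg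
    rw [map_sub, map_sub, map_mul, map_mul, map_one, map_one]
    have e1 : φ₁.left.appTop ((pU R σ A B).left.appTop (val s EA)) =
        φ₂.left.appTop ((pU R σ A B).left.appTop (val s EA)) := by
      have := hval
      rw [Over.comp_left, Over.comp_left, Scheme.Hom.comp_appTop, Scheme.Hom.comp_appTop] at this
      exact this
    have e2 : φ₁.left.appTop ((pT R σ A B).left.appTop b) =
        φ₂.left.appTop ((pT R σ A B).left.appTop b) := by
      have h3 : (φ₁ ≫ pT R σ A B).left.appTop b = (φ₂ ≫ pT R σ A B).left.appTop b := by rw [hT]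
      rw [Over.comp_left, Over.comp_left, Scheme.Hom.comp_appTop, Scheme.Hom.comp_appTop] at h3
      exact h3
    rw [e1, e2]
  intro hq'
  apply hq
  have h1 : w ∈ φ₂.left ⁻¹ᵁ (TB R σ (A ⊗[R] B)).left.basicOpen (Pg R σ A B (val s EA) b) := by
    show φ₂.left w ∈ (TB R σ (A ⊗[R] B)).left.basicOpen (Pg R σ A B (val s EA) b)
    rw [hw2]; exact hq'
  rw [Scheme.preimage_basicOpen_top, ← hPg, ← Scheme.preimage_basicOpen_top] at h1
  have h2 : φ₁.left w ∈ (TB R σ (A ⊗[R] B)).left.basicOpen (Pg R σ A B (val s EA) b) := h1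
  rw [hw1] at h2
  exact h2

end TBchart

/-- pullback of global functions along a flat surjective morphism is injective
(copy of a lemma of helper17, to avoid its imports) -/
theorem appTop_injective_of_flat_surjective {Y Z : Scheme.{u}} (g : Y ⟶ Z) [Flat g] [Surjective g] :
    Function.Injective g.appTop.hom := by
  intro s t hst
  refine TopCat.Presheaf.section_ext Z.sheaf ⊤ s t ?_
  intro y hy
  obtain ⟨x, rfl⟩ := g.surjective y
  have hflat : (g.stalkMap x).hom.Flat := Flat.stalkMap g x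
  have hinj : Function.Injective (g.stalkMap x).hom := by
    algebraize [(g.stalkMap x).hom]
    haveI : IsLocalHom (algebraMap (Z.presheaf.stalk (g x)) (Y.presheaf.stalk x)) :=
      inferInstanceAs (IsLocalHom (g.stalkMap x).hom)
    haveI : Module.FaithfullyFlat (Z.presheaf.stalk (g x)) (Y.presheaf.stalk x) :=
      Module.FaithfullyFlat.of_flat_of_isLocalHom
    exact FaithfulSMul.algebraMap_injective _ _
  apply hinj
  have h := Scheme.Hom.germ_stalkMap g ⊤ x hy
  have h1 := congrArg (fun φ => φ.hom s) h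
  have h2 := congrArg (fun φ => φ.hom t) h
  simp only [CommRingCat.hom_comp, RingHom.comp_apply] at h1 h2
  exact h1.trans ((congrArg _ hst).trans h2.symm)

theorem isoSpec_inv_appTop_hom (T : Scheme.{u}) [IsAffine T] :
    T.isoSpec.inv.appTop ≫ (Scheme.ΓSpecIso Γ(T, ⊤)).hom = 𝟙 _ := by
  have h1 : T.isoSpec.hom.appTop = (Scheme.ΓSpecIso Γ(T, ⊤)).hom := Scheme.toSpecΓ_appTop T
  have h2 : T.isoSpec.hom.appTop ≫ T.isoSpec.inv.appTop = 𝟙 _ := by
    rw [← Scheme.Hom.comp_appTop, Iso.inv_hom_id]; rfl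
  rw [h1] at h2
  have h3 : T.isoSpec.inv.appTop = (Scheme.ΓSpecIso Γ(T, ⊤)).inv := by
    have := congrArg (fun m => (Scheme.ΓSpecIso Γ(T, ⊤)).inv ≫ m) h2
    simpa using this
  rw [h3, Iso.inv_hom_id]

section evalmap

variable {V : Over S} (f : X ⟶ (yon S).obj V) (s : ↥(gsectEt (OEt X)))
  (p : Polynomial Γ(V.left, ⊤))

theorem psi_comp {E E' : EtOver X} (k : E ⟶ E') :
    (yon S).preimage (E.obj.hom ≫ f) = k.hom.left ≫ (yon S).preimage (E'.obj.hom ≫ f) := by
  apply (yon S).map_injective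
  rw [Functor.map_comp, Functor.map_preimage, Functor.map_preimage, ← Category.assoc, EtOver.w]

theorem eval_map {E E' : EtOver X} (k : E ⟶ E') :
    k.hom.left.left.appTop.hom
      (Polynomial.eval₂ ((yon S).preimage (E'.obj.hom ≫ f)).left.appTop.hom (val s E') p) =
    Polynomial.eval₂ ((yon S).preimage (E.obj.hom ≫ f)).left.appTop.hom (val s E) p := by
  rw [Polynomial.hom_eval₂]
  have h1 : k.hom.left.left.appTop.hom (val s E') = val s E := val_map s k
  rw [h1]
  congr 1
  rw [psi_comp f k, Over.comp_left, Scheme.Hom.comp_appTop, CommRingCat.hom_comp]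

end evalmap

set_option maxHeartbeats 1600000 in
/-- **Global functions on a quasi-compact universally closed space over an affine scheme are
integral over the functions of the base.** -/
theorem exists_monic_gsect {V : Over S} [IsAffine V.left] (f : X ⟶ (yon S).obj V)
    (hqc : IsQuasiCompactMor f) (huc : IsUnivClosedMor f) (s : ↥(gsectEt (OEt X))) :
    ∃ p : Polynomial Γ(V.left, ⊤), p.Monic ∧ ∀ E : EtOver X,
      Polynomial.eval₂ ((yon S).preimage (E.obj.hom ≫ f)).left.appTop.hom (val s E) p = 0 := by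
  let σ : Spec (CommRingCat.of Γ(V.left, ⊤)) ⟶ S := V.left.isoSpec.inv ≫ V.hom
  let εV : Over.mk σ ≅ V := Over.isoMk V.left.isoSpec.symm rfl
  obtain ⟨g₀, hg₀⟩ : ∃ g₀ : (yon S).obj (Over.mk σ) ⟶ (yon S).obj V, g₀ = (yon S).map εV.hom :=
    ⟨_, rfl⟩
  haveI : IsIso g₀ := by rw [hg₀]; infer_instance
  have hι : IsIso (pullback.fst f g₀) := inferInstance
  obtain ⟨A, _, _, a, ha, hae, has⟩ := exists_TB_chart Γ(V.left, ⊤) σ g₀ hqc
  let EA : EtOver X := EtOver.mk (a ≫ pullback.fst f g₀)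
      ((RepWith @Etale).comp_mem _ _ hae (repWith_of_isIso @Etale _))
  have hEAs : RepWith @Surjective EA.obj.hom :=
    (RepWith @Surjective).comp_mem _ _ has (repWith_of_isIso @Surjective _)
  have hcb : CB f ((yon S).map (hB Γ(V.left, ⊤) σ (Polynomial Γ(V.left, ⊤))) ≫ g₀) :=
    huc (IsAlgSpace.yon_obj _) _ _ _ (IsPullback.of_hasPullback f _)
  let bX : Γ((TB Γ(V.left, ⊤) σ (Polynomial Γ(V.left, ⊤))).left, ⊤) :=
    gs (Polynomial.X : Polynomial Γ(V.left, ⊤))
  have hcl := isClosed_image_of_saturated Γ(V.left, ⊤) σ g₀ A (Polynomial Γ(V.left, ⊤)) a ha hae has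
    hcb
    (((TB Γ(V.left, ⊤) σ (A ⊗[Γ(V.left, ⊤)] (Polynomial Γ(V.left, ⊤)))).left.basicOpen
      (Pg Γ(V.left, ⊤) σ A (Polynomial Γ(V.left, ⊤)) (val s EA) bX) : Set _)ᶜ)
    (isClosed_compl_iff.2 (Scheme.basicOpen _ _).2)
    (fun q q' h hq =>
      saturated_Pg Γ(V.left, ⊤) σ g₀ A (Polynomial Γ(V.left, ⊤)) a ha hae hι s bX q q' h hq)
  obtain ⟨sA, hsA⟩ : ∃ sA : A, sA = (Scheme.ΓSpecIso (CommRingCat.of A)).hom (val s EA) :=
    ⟨_, rfl⟩
  have hgs : val s EA = gs sA := by
    rw [hsA]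
    exact (Iso.hom_inv_id_apply (Scheme.ΓSpecIso (CommRingCat.of A)) (val s EA)).symm
  have hPg : Pg Γ(V.left, ⊤) σ A (Polynomial Γ(V.left, ⊤)) (val s EA) bX =
      gs (sA ⊗ₜ[Γ(V.left, ⊤)] (Polynomial.X : Polynomial Γ(V.left, ⊤)) - 1) := by
    have e1 : (pU Γ(V.left, ⊤) σ A (Polynomial Γ(V.left, ⊤))).left.appTop (gs sA) =
        gs (sA ⊗ₜ[Γ(V.left, ⊤)] (1 : Polynomial Γ(V.left, ⊤))) :=
      appTop_gs (Algebra.TensorProduct.includeLeft :
        A →ₐ[Γ(V.left, ⊤)] A ⊗[Γ(V.left, ⊤)] (Polynomial Γ(V.left, ⊤))).toRingHom sA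
    have e2 : (pT Γ(V.left, ⊤) σ A (Polynomial Γ(V.left, ⊤))).left.appTop bX =
        gs ((1 : A) ⊗ₜ[Γ(V.left, ⊤)] (Polynomial.X : Polynomial Γ(V.left, ⊤))) :=
      appTop_gs (Algebra.TensorProduct.includeRight :
        (Polynomial Γ(V.left, ⊤)) →ₐ[Γ(V.left, ⊤)] A ⊗[Γ(V.left, ⊤)] (Polynomial Γ(V.left, ⊤))).toRingHom
        Polynomial.X
    have e3 : sA ⊗ₜ[Γ(V.left, ⊤)] (Polynomial.X : Polynomial Γ(V.left, ⊤)) - 1 =
        (sA ⊗ₜ[Γ(V.left, ⊤)] (1 : Polynomial Γ(V.left, ⊤))) *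
          ((1 : A) ⊗ₜ[Γ(V.left, ⊤)] (Polynomial.X : Polynomial Γ(V.left, ⊤))) - 1 := by
      rw [Algebra.TensorProduct.tmul_mul_tmul, mul_one, one_mul]
    unfold Pg
    rw [hgs, e1, e2, e3, gs_sub, gs_mul, gs_one]
    rfl
  rw [hPg] at hcl
  have hcl2 : IsClosed (PrimeSpectrum.comap
        (Algebra.TensorProduct.includeRight (R := Γ(V.left, ⊤)) (A := A)
          (B := Polynomial Γ(V.left, ⊤))).toRingHom ''
      PrimeSpectrum.zeroLocus {sA ⊗ₜ[Γ(V.left, ⊤)] (Polynomial.X : Polynomial Γ(V.left, ⊤)) - 1}) := by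
    rw [← basicOpen_gs_compl]
    exact hcl
  have hint : IsIntegral Γ(V.left, ⊤) sA := isIntegral_of_isClosed_image sA hcl2
  obtain ⟨p, hp, hp0⟩ := hint
  have hEA0 : Polynomial.eval₂ ((yon S).preimage (EA.obj.hom ≫ f)).left.appTop.hom (val s EA) p
      = 0 := by
    have hinj : Function.Injective (Scheme.ΓSpecIso (CommRingCat.of A)).hom.hom := by
      intro x y hxy
      have := congrArg (Scheme.ΓSpecIso (CommRingCat.of A)).inv.hom hxy
      simpa using this
    apply hinj
    refine Eq.trans ?_ (map_zero (Scheme.ΓSpecIso (CommRingCat.of A)).hom.hom).symm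
    have hpre : (yon S).preimage (EA.obj.hom ≫ f) = hB Γ(V.left, ⊤) σ A ≫ εV.hom := by
      apply (yon S).map_injective
      rw [Functor.map_preimage, Functor.map_comp, ← hg₀]
      change (a ≫ pullback.fst f g₀) ≫ f = _
      rw [Category.assoc, pullback.condition, ← Category.assoc, ha]
    have n1 := Scheme.ΓSpecIso_naturality (CommRingCat.ofHom (algebraMap Γ(V.left, ⊤) A))
    have n2 : V.left.isoSpec.inv.appTop ≫
        (Scheme.ΓSpecIso (CommRingCat.of Γ(V.left, ⊤))).hom = 𝟙 _ := isoSpec_inv_appTop_hom V.left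
    have n3 : V.left.isoSpec.inv.appTop ≫
        (Spec.map (CommRingCat.ofHom (algebraMap Γ(V.left, ⊤) A))).appTop ≫
          (Scheme.ΓSpecIso (CommRingCat.of A)).hom =
        CommRingCat.ofHom (algebraMap Γ(V.left, ⊤) A) := by
      rw [n1, ← Category.assoc, n2, Category.id_comp]
    have hcomp : (Scheme.ΓSpecIso (CommRingCat.of A)).hom.hom.comp
        ((yon S).preimage (EA.obj.hom ≫ f)).left.appTop.hom = algebraMap Γ(V.left, ⊤) A := by
      rw [hpre, Over.comp_left, Scheme.Hom.comp_appTop]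
      exact congrArg CommRingCat.Hom.hom n3
    have hev := Polynomial.hom_eval₂ p ((yon S).preimage (EA.obj.hom ≫ f)).left.appTop.hom
      (Scheme.ΓSpecIso (CommRingCat.of A)).hom.hom (val s EA)
    refine hev.trans ?_
    exact (congrArg₂ (fun φ x => Polynomial.eval₂ φ x p) hcomp hsA.symm).trans hp0
  refine ⟨p, hp, fun E => ?_⟩
  have hk₁e : Etale (EtOver.prodFst E EA).hom.left.left := EtOver.etale_left _
  have hk₁s : Surjective (EtOver.prodFst E EA).hom.left.left :=
    hEAs.property E.obj.hom _ _ (EA.property.1.isPullback E.obj.hom)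
  apply appTop_injective_of_flat_surjective (EtOver.prodFst E EA).hom.left.left
  rw [map_zero, eval_map f s p (EtOver.prodFst E EA), ← eval_map f s p (EtOver.prodSnd E EA),
    hEA0, map_zero]

end Groth.Agent.Helper19.Gsect
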